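import Mathlib
import Cfsg.Agent.Lib.Intr.A
import Cfsg.Agent.Lib.PComp.Terminal
import Cfsg.Agent.Lib.TwoFusion.ZStarIso
import Cfsg.Agent.S1301

/-! Intrinsic 2-components with a unique involution: tools. -/

set_option autoImplicit false
set_option linter.unusedSectionVars false

namespace H82.IN

open Subgroup Cfsg H68 H44

variable {G : Type*} [Group G] [Finite G]

instance fact2 : Fact (Nat.Prime 2) := ⟨Nat.prime_two⟩

theorem mc {x y : G} : x ∈ centralizer ({y} : Set G) ↔ x * y = y * x :=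
  mem_centralizer_singleton_iff

theorem eq_one_of_core {T J : Subgroup G} (hT : IsPGroup 2 T) {x : G} (h1 : x ∈ T)
    (h2 : x ∈ coreOf 2 J) : x = 1 := by
  have : x ∈ T ⊓ coreOf 2 J := ⟨h1, h2⟩
  rwa [inf_eq_bot_of_isPGroup hT (coprime_card_coreOf 2 J), mem_bot] at this

theorem comm_of_cbar {T J : Subgroup G} (hT : IsPGroup 2 T) {a q : G} (ha : a ∈ T)
    (hc : a ∈ cbar 2 J) (hq : q ∈ T) (hqJ : q ∈ J) : a * q = q * a := by
  have := eq_one_of_core hT (mul_mem (mul_mem (mul_mem ha hq) (inv_mem ha)) (inv_mem hq))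
    (mem_cbar_iff.mp hc q hqJ)
  rwa [mul_inv_eq_one, mul_inv_eq_iff_eq_mul] at this

theorem UI.sq_of_cbar {J : Subgroup G} {z : G} (h : UI J z) (hq : PQuasi 2 J) {a : G}
    (ha : a ∈ J) (hc : a ∈ cbar 2 J) (ht : TE a) : a * a = 1 := by
  obtain ⟨P, hP, haP⟩ := exists_sylowIn_ge ht.pg (zpowers_le.mpr ha)
  have h1 := haP (mem_zpowers a)
  exact (h.sylow hq.perfect hP).sq_of_central h1 fun q hq' =>
    (comm_of_cbar hP.isPGroup h1 hc hq' (hP.le hq')).symm

theorem cj_le_cbar {J H : Subgroup G} (hJ : PComp 2 J H) {g : G} (hg : g ∈ H)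
    (hn : g ∉ normalizer (J : Set G)) : cj g J ≤ cbar 2 J :=
  hJ.le_cbar_of_ne (hJ.map_conj (le_normalizer hg)) fun e => hn (mem_normalizer_iff_cj.mpr e.symm)

theorem conj_mem_cbar {J H : Subgroup G} (hJ : PComp 2 J H) {g a : G} (hg : g ∈ H)
    (hn : g ∉ normalizer (J : Set G)) (ha : a ∈ J) : g * a * g⁻¹ ∈ cbar 2 J :=
  cj_le_cbar hJ hg hn (conj_mem_cj.mpr ha)

/-- An involution centralising a Sylow 2-subgroup of `J` centralises `J / O(J)`. -/
theorem UI.mem_cbar {J S : Subgroup G} {z : G} (h : UI J z) (hS : SylowIn 2 S J) {t : G}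
    (ht : t * t = 1) (hn : t ∈ normalizer (J : Set G)) (hc : ∀ s ∈ S, s * t = t * s) :
    t ∈ cbar 2 J := by
  have hti : t⁻¹ = t := inv_eq_of_mul_eq_one_right ht
  by_cases h1 : t = 1
  · exact h1 ▸ one_mem _
  have hzt := h.comm hn
  have key : ∀ g ∈ J, Commute t (g * t * g⁻¹) → g * t * g⁻¹ = t := by
    intro g hg hcm
    have hs : g * t * g⁻¹ * t⁻¹ ∈ J := by
      have := conj_mem_of_mem_normalizer hn (inv_mem hg)
      simpa only [mul_assoc] using mul_mem hg this
    have hss : g * t * g⁻¹ * t⁻¹ * (g * t * g⁻¹ * t⁻¹) = 1 := by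
      have h2 : g * t * g⁻¹ * (g * t * g⁻¹) = 1 := by rw [conj_mul, ht]; group
      rw [hti]
      generalize g * t * g⁻¹ = c at *
      calc c * t * (c * t) = c * (t * c) * t := by group
        _ = (c * c) * (t * t) := by rw [hcm.eq]; group
        _ = 1 := by rw [h2, ht, one_mul]
    rcases h.uniq _ hs hss with e | e
    · exact mul_inv_eq_one.mp e
    have e1 : g * t * g⁻¹ = z * t := by rw [← e]; group
    set D := J ⊓ centralizer ({t} : Set G) with hD
    have hgD : g ∈ normalizer (D : Set G) := by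
      refine mem_normalizer_of_cj_le (cj_le_iff'.mpr fun x hx =>
        ⟨J.mul_mem (J.mul_mem hg hx.1) (J.inv_mem hg), mc.mpr ?_⟩)
      have h3 := mc.mp hx.2
      have h4 := h.comm' hx.1
      have h5 := h.comm' hg
      have e2 : t = g * (z * t) * g⁻¹ := by
        calc t = (z * z) * t := by rw [h.sq, one_mul]
          _ = z * (g * t * g⁻¹) := by rw [e1, mul_assoc]
          _ = _ := by rw [← mul_assoc g z, h5]; group
      have e3 : x * (z * t) = z * t * x := by rw [← mul_assoc, h4, mul_assoc, h3, mul_assoc]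
      calc g * x * g⁻¹ * t = g * x * g⁻¹ * (g * (z * t) * g⁻¹) := by rw [← e2]
        _ = g * (x * (z * t)) * g⁻¹ := by group
        _ = g * (z * t) * g⁻¹ * (g * x * g⁻¹) := by rw [e3]; group
        _ = _ := by rw [← e2]
    have hN : D ⊔ zpowers g ≤ normalizer (D : Set G) := sup_le le_normalizer (zpowers_le.mpr hgD)
    have hn' := normal_subgroupOf_of_le_normalizer hN
    have h6 : g ^ D.relIndex (D ⊔ zpowers g) ∈ D :=
      pow_index_mem (D.subgroupOf (D ⊔ zpowers g)) ⟨g, mem_sup_right (mem_zpowers g)⟩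
    have hSD : S ≤ D := fun s hs => ⟨hS.le hs, mc.mpr (hc s hs)⟩
    have h7 : Odd (D.relIndex (D ⊔ zpowers g)) := by
      refine Nat.not_even_iff_odd.mp fun e => hS.not_dvd_relIndex ((even_iff_two_dvd.mp e).trans ?_)
      have hl : D ⊔ zpowers g ≤ J := sup_le inf_le_left (zpowers_le.mpr hg)
      rw [← relIndex_mul_relIndex S D J hSD inf_le_left,
        ← relIndex_mul_relIndex D _ J le_sup_left hl]
      exact (dvd_mul_right _ _).trans (dvd_mul_left _ _)
    obtain ⟨m, hm⟩ := h7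
    have h8 : g ^ 2 ∈ D := by
      refine ⟨pow_mem hg 2, mc.mpr ?_⟩
      rw [← mul_inv_eq_iff_eq_mul]
      calc g ^ 2 * t * (g ^ 2)⁻¹ = g * (g * t * g⁻¹) * g⁻¹ := by rw [pow_two]; group
        _ = g * (z * t) * g⁻¹ := by rw [e1]
        _ = (g * z) * g⁻¹ * (g * t * g⁻¹) := by group
        _ = t := by rw [h.comm' hg, e1, mul_inv_cancel_right, ← mul_assoc, h.sq, one_mul]
    rw [hm, pow_succ, pow_mul] at h6
    have h9 := mc.mp ((mul_mem_cancel_left (pow_mem h8 m)).mp h6).2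
    rw [h9, mul_inv_cancel_right]
  set X := J ⊔ zpowers t with hX
  have htX : t ∈ X := mem_sup_right (mem_zpowers t)
  have hiso : IsIsolatedInvolution (⟨t, htX⟩ : X) := by
    refine ⟨orderOf_eq_prime (Subtype.ext (by simpa [pow_two] using ht))
      (fun e => h1 (congrArg Subtype.val e)), fun g hg => Subtype.ext ?_⟩
    obtain ⟨j, hj, s, hs, e⟩ := (mem_sup_of_le_normalizer' (zpowers_le.mpr hn)).mp g.2
    have e1 : (g : G) * t * (g : G)⁻¹ = j * t * j⁻¹ := by
      rw [e]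
      calc j * s * t * (j * s)⁻¹ = j * (s * t) * s⁻¹ * j⁻¹ := by group
        _ = _ := by rw [comm_of_gen hs (mem_zpowers t)]; group
    have e2 : t * ((g : G) * t * (g : G)⁻¹) = (g : G) * t * (g : G)⁻¹ * t :=
      congrArg Subtype.val hg.eq
    change (g : G) * t * (g : G)⁻¹ = t
    rw [e1] at e2 ⊢
    exact key j hj e2
  refine mem_cbar_iff.mpr fun k hk => coreOf_inf_le (le_sup_left : J ≤ X) ⟨?_, ?_⟩
  · exact mem_coreOf_iff.mpr (H41.Isolated.zstar hiso ⟨k, mem_sup_left hk⟩)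
  · exact J.mul_mem (conj_mem_of_mem_normalizer hn hk) (J.inv_mem hk)

theorem diag_top {J : Subgroup G} (hJ : PComp 2 J ⊤) {t a : G} (ht : t * t = 1)
    (hn : t ∉ normalizer (J : Set G)) (ha : a ∈ J) (hx : TE (a * (t * a * t⁻¹)))
    (hc : a * (t * a * t⁻¹) ∈ centralizer ({t} : Set G)) :
    a * (t * a * t⁻¹) ∈ pLayerOf 2 (centralizer ({t} : Set G)) := by
  set f := QuotientGroup.mk' (pPrimeCore 2 G) with hf
  have hD : IsComponentOf (J.map f) ⊤ :=
    isComponentOf_top_iff.mpr (hJ.2.isComponent_map_mk' (subnIn_top.mp hJ.1))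
  have ht2 : f t ^ 2 = 1 := by rw [← map_pow, pow_two, ht, map_one]
  have hn' : f t ∉ normalizer ((J.map f : Subgroup _) : Set (G ⧸ pPrimeCore 2 G)) := by
    intro h
    refine hn (mem_normalizer_iff_cj.mpr ((hJ.map_conj (le_normalizer (mem_top t))).eq_of_map_eq hJ
      (coprime_ker_mk'_inf 2 ⊤) ?_))
    rw [← cj_eq_of_mem_normalizer h]
    ext y
    simp only [mem_map]
    constructor
    · rintro ⟨_, ⟨x, hx, rfl⟩, rfl⟩
      exact ⟨f x, ⟨x, hx, rfl⟩, by simp [hf]⟩
    · rintro ⟨_, ⟨x, hx, rfl⟩, rfl⟩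
      exact ⟨_, ⟨x, hx, rfl⟩, by simp [hf]⟩
  have h1 := IsComponentOf.commutator_cj_pow (p := 2) hD (le_normalizer (mem_top _)) (ht2 ▸ one_mem _) hn'
  have h2 := subnIn_range_nrmHom hD (le_normalizer (mem_top _)) two_pos h1 (ht2 ▸ one_mem _)
  rw [top_inf_eq] at h2
  have h3 : PComp 2 (nrmHom h1).range (centralizer ({f t} : Set _)) := by
    refine ⟨IsComponentOf.subnIn h2, ?_⟩
    have h4 : (nrmHom h1).range ≠ ⊥ := fun e => IsComponentOf.not_le_centralizer h2 (e ▸ bot_le)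
    rw [MonoidHom.range_eq_map] at h4 ⊢
    exact (pquasi_top_iff.mpr (hJ.2.map_of_ker (coprime_ker_mk'_inf 2 J))).map_of_ne_bot _ h4
  have h4 : zpowers (a * (t * a * t⁻¹)) ≤ pLayerOf 2 (centralizer ({t} : Set G)) := by
    refine le_pLayerOf_of_map_le (f := f)
      (le_antisymm (pGen_le _ _) (le_pGen_of_isPGroup hx.pg le_rfl)) (zpowers_le.mpr hc)
      (coprime_ker_mk'_inf 2 _) ?_
    rw [← centralizer_zpowers, map_centralizer_mk' (TE.of_sq ht).pg, MonoidHom.map_zpowers,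
      MonoidHom.map_zpowers, centralizer_zpowers, zpowers_le]
    refine h3.le_pLayerOf ⟨⟨f a, mem_map_of_mem f ha⟩, ?_⟩
    rw [nrmHom_apply, nrm_two]
    simp [hf]
  exact h4 (mem_zpowers _)

theorem lbal (H : Subgroup G) : LBalIn 2 H :=
  lbalIn_iff.2 fun P hP => Cfsg.Agent.S1301.result P hP

/-- The diagonal of two components swapped by an involution `t` lies in `L(C(t))`. -/
theorem diag {J : Subgroup G} {z : G} (hz : z * z = 1) (hJ : PComp 2 J (centralizer ({z} : Set G)))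
    {t a : G} (ht : t * t = 1) (htz : t * z = z * t) (hn : t ∉ normalizer (J : Set G)) (ha : a ∈ J)
    (hx : TE (a * (t * a * t⁻¹))) (hc : a * (t * a * t⁻¹) * t = t * (a * (t * a * t⁻¹))) :
    a * (t * a * t⁻¹) ∈ pLayerOf 2 (centralizer ({t} : Set G)) := by
  set H := centralizer ({z} : Set G) with hH
  have htH : t ∈ H := mc.mpr htz
  have haH : a ∈ H := hJ.le ha
  have h1 := diag_top (G := H) (J := J.subgroupOf H) (t := ⟨t, htH⟩) (a := ⟨a, haH⟩)
    (by have := hJ.subgroupOf hJ.le; rwa [subgroupOf_self] at this) (Subtype.ext ht) (fun h => hn (by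
      refine mem_normalizer_of_cj_le (cj_le_iff'.mpr fun x hx => ?_)
      exact conj_mem_of_mem_normalizer (x := (⟨x, hJ.le hx⟩ : H)) h hx)) ha
    (let ⟨k, hk⟩ := hx; ⟨k, Subtype.ext hk⟩) (mc.mpr (Subtype.ext hc))
  have h2 := mem_map_of_mem H.subtype h1
  rw [map_pLayerOf_of_injective H.subtype_injective, centralizer_singleton_subtype,
    subgroupOf_map_subtype] at h2
  refine lbal _ _ (TE.of_sq hz).pg (zpowers_le.mpr (mc.mpr htz.symm)) ?_
  rw [centralizer_zpowers]
  exact h2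

theorem pLayerOf_le_sup {K H : Subgroup G} (hK : PComp 2 K H) : pLayerOf 2 H ≤ K ⊔ cbar 2 K :=
  pLayerOf_le_iff.mpr fun L hL => by
    by_cases e : K = L
    · exact e ▸ le_sup_left
    · exact (hK.le_cbar_of_ne hL e).trans le_sup_right

/-- A 2-element of the layer acts on a component as an element of its Sylow 2-subgroup. -/
theorem exists_inner {K H R : Subgroup G} (hK : PComp 2 K H) (hR : SylowIn 2 R H) {x : G}
    (hx : x ∈ R) (hL : x ∈ pLayerOf 2 H) : ∃ k ∈ R ⊓ K, k⁻¹ * x ∈ cbar 2 K := by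
  set N := normalizer (K : Set G) with hN
  have hC : ((cbar 2 K).subgroupOf N).Normal :=
    normal_subgroupOf_of_le_normalizer (normalizer_le_normalizer_cbar 2 K)
  set f := QuotientGroup.mk' ((cbar 2 K).subgroupOf N) with hf
  have hP := SylowIn.inf_of_subnIn hR hK.1
  have hKN : K ≤ N := le_normalizer
  have hLN : pLayerOf 2 H ≤ N := hK.pLayerOf_le_normalizer
  have hP' : SylowIn 2 ((R ⊓ K).subgroupOf N) (K.subgroupOf N) := by
    refine sylowIn_of_not_dvd_relIndex (isPGroup_subgroupOf hP.isPGroup N) (comap_mono hP.le) ?_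
    rw [relIndex_subgroupOf hKN]
    exact hP.not_dvd_relIndex
  have h1 := (hP'.map f).eq_of_le (Q := ((R ⊓ pLayerOf 2 H).subgroupOf N).map f)
    ((isPGroup_subgroupOf (hR.isPGroup.to_le inf_le_left) N).map f)
    (map_mono (comap_mono (inf_le_inf_left R hK.le_pLayerOf))) (by
      rintro _ ⟨y, hy, rfl⟩
      obtain ⟨k, hk, c, hc, e⟩ := (mem_sup_of_le_normalizer
        (hKN.trans (normalizer_le_normalizer_cbar 2 K))).mp (pLayerOf_le_sup hK hy.2)
      refine ⟨⟨k, hKN hk⟩, hk, QuotientGroup.eq.mpr ?_⟩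
      change k⁻¹ * (y : G) ∈ cbar 2 K
      rw [show (y : G) = k * c from e, inv_mul_cancel_left]
      exact hc)
  obtain ⟨k, hk, e⟩ := h1.le (mem_map_of_mem f (x := ⟨x, hLN hL⟩) ⟨hx, hL⟩)
  have e' : k⁻¹ * ⟨x, hLN hL⟩ ∈ (cbar 2 K).subgroupOf N := QuotientGroup.eq.mp e
  exact ⟨k, hk, e'⟩

/-- `J` is a 2-component of the centraliser of its unique involution `z`. -/
structure IC (J : Subgroup G) (z : G) : Prop extends UI J z where
  pc : PComp 2 J (centralizer ({z} : Set G))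

namespace IC

variable {J : Subgroup G} {z : G}

theorem cj (h : IC J z) (g : G) : IC (cj g J) (g * z * g⁻¹) :=
  ⟨h.toUI.cj g, cj_centralizer_singleton g z ▸ h.pc.cj g⟩

theorem syl (h : IC J z) {T : Subgroup G} (hT : SylowIn 2 T (centralizer ({z} : Set G))) :
    SylowIn 2 (T ⊓ J) J := SylowIn.inf_of_subnIn hT h.pc.1

theorem qu (h : IC J z) {T : Subgroup G} (hT : SylowIn 2 T (centralizer ({z} : Set G))) :
    QU (T ⊓ J) z := h.toUI.sylow h.pc.2.perfect (h.syl hT)

theorem not_cbar (h : IC J z) {a : G} (ha : a ∈ J) (haa : a * a = z) : a ∉ cbar 2 J := fun hc =>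
  h.ne (haa ▸ h.toUI.sq_of_cbar h.pc.2 ha hc ⟨2, by
    rw [show 2 ^ 2 = 2 + 2 from rfl, pow_add, pow_two, haa, h.sq]⟩)

theorem z_cbar (h : IC J z) : z ∈ cbar 2 J :=
  centralizer_le_cbar 2 J fun _ hx => h.toUI.comm' hx

/-- An element of `J` and of another component is `1` or `z`. -/
theorem eq_of_conj (h : IC J z) {g a : G} (hg : g * z = z * g) (hn : g ∉ normalizer (J : Set G))
    (ha : a ∈ J) (ha' : a ∈ H68.cj g J) (ht : TE a) : a = 1 ∨ a = z :=
  h.uniq a ha (h.toUI.sq_of_cbar h.pc.2 ha (cj_le_cbar h.pc (mc.mpr hg) hn ha') ht)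

end IC

end H82.IN
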