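import Mathlib
import Cfsg.Agent.Lib.Intr.B

/-! Intrinsic 2-components: 2-elements of `K` of order at least 4, easy cases. -/

set_option autoImplicit false
set_option linter.unusedSectionVars false

namespace H82.IN

open Subgroup Cfsg H68 H44

variable {G : Type*} [Group G] [Finite G] {J K T R : Subgroup G} {z w : G}

theorem cm {T : Subgroup G} {g x : G} (hg : g ∈ T) (hx : x ∈ T) : g * x * g⁻¹ ∈ T :=
  T.mul_mem (T.mul_mem hg hx) (T.inv_mem hg)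

theorem exists_TR (z w : G) {y : G} (hy : TE y) (hz : y * z = z * y) (hw : y * w = w * y) :
    ∃ T R : Subgroup G, SylowIn 2 T (centralizer ({z} : Set G)) ∧
      SylowIn 2 R (centralizer ({w} : Set G)) ∧ y ∈ T ∧ y ∈ R ∧
      (∀ x ∈ T, x * w = w * x → x ∈ R) ∧ ∀ x ∈ R, x * z = z * x → x ∈ T := by
  obtain ⟨S, hS, hyS⟩ := exists_sylowIn_ge (H := centralizer ({z} : Set G) ⊓
    centralizer ({w} : Set G)) hy.pg (zpowers_le.mpr ⟨mc.mpr hz, mc.mpr hw⟩)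
  obtain ⟨T, hT, hST⟩ := exists_sylowIn_ge hS.isPGroup (hS.le.trans inf_le_left)
  obtain ⟨R, hR, hSR⟩ := exists_sylowIn_ge hS.isPGroup (hS.le.trans inf_le_right)
  have h1 := hS.eq_of_le (Q := T ⊓ centralizer ({w} : Set G)) (hT.isPGroup.to_le inf_le_left)
    (le_inf hST (hS.le.trans inf_le_right)) (inf_le_inf_right _ hT.le)
  have h2 := hS.eq_of_le (Q := centralizer ({z} : Set G) ⊓ R) (hR.isPGroup.to_le inf_le_right)
    (le_inf (hS.le.trans inf_le_left) hSR) (inf_le_inf_left _ hR.le)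
  exact ⟨T, R, hT, hR, hST (hyS (mem_zpowers y)), hSR (hyS (mem_zpowers y)),
    fun x hx e => hSR (h1.le ⟨hx, mc.mpr e⟩), fun x hx e => hST (h2.le ⟨mc.mpr e, hx⟩)⟩

/-- The diagonal element `u u^w`. -/
theorem diag_mem (hJ : IC J z) (hT : SylowIn 2 T (centralizer ({z} : Set G))) (hw : w * w = 1)
    (hwT : w ∈ T) (hn : w ∉ normalizer (J : Set G)) {u : G} (hu : u ∈ T ⊓ J) :
    u * (w * u * w⁻¹) * w = w * (u * (w * u * w⁻¹)) ∧
      u * (w * u * w⁻¹) ∈ pLayerOf 2 (centralizer ({w} : Set G)) := by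
  have h1 := comm_of_cbar hT.isPGroup (cm hwT hu.1) (conj_mem_cbar hJ.pc (hT.le hwT) hn hu.2)
    hu.1 hu.2
  have h2 : u * (w * u * w⁻¹) * w = w * (u * (w * u * w⁻¹)) := by
    calc u * (w * u * w⁻¹) * w = (w * u * w⁻¹) * u * w := by rw [h1]
      _ = w * u * (w * (w * w)⁻¹) * u * ((w * w) * w⁻¹) := by group
      _ = _ := by rw [hw]; group
  exact ⟨h2, diag hJ.sq hJ.pc hw (mc.mp (hT.le hwT)) hn hu.2
    (TE.of_mem hT.isPGroup (T.mul_mem hu.1 (cm hwT hu.1))) h2⟩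

theorem caseA (hJ : IC J z) (hK : IC K w) (hT : SylowIn 2 T (centralizer ({z} : Set G))) {y : G}
    (hyK : y ∈ K) (hyT : y ∈ T) (hyy : y * y ≠ 1) : w ∈ normalizer (J : Set G) := by
  by_contra hn
  have hy := TE.of_mem hT.isPGroup hyT
  have hy1 : y ≠ 1 := fun e => hyy (by rw [e, mul_one])
  have hwT : w ∈ T := hK.toUI.mem_of hyK hy hy1 hyT
  obtain ⟨u, hu, -, -, huu, -⟩ := (hJ.qu hT).pair
  obtain ⟨-, hx⟩ := diag_mem hJ hT hK.sq hwT hn hu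
  have hu' := conj_mem_cbar hJ.pc (hT.le hwT) hn hu.2
  have hxT : u * (w * u * w⁻¹) ∈ T := T.mul_mem hu.1 (cm hwT hu.1)
  have hL : u * (w * u * w⁻¹) ∈ pLayerOf 2 (centralizer ({z} : Set G)) :=
    mul_mem (hJ.pc.le_pLayerOf hu.2) (conj_mem_of_mem_normalizer
      (le_normalizer_pLayerOf _ (hT.le hwT)) (hJ.pc.le_pLayerOf hu.2))
  have h1 : y ∉ normalizer (J : Set G) := fun h => hn (hK.toUI.mem_of hyK hy hy1 h)
  have h2 : y * w ∉ normalizer (J : Set G) := fun h => by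
    refine hn (hK.toUI.mem_of (K.mul_mem hyK hyK) (TE.of_mem hT.isPGroup (T.mul_mem hyT hyT)) hyy ?_)
    have : y * w * (y * w) = y * y := by
      calc y * w * (y * w) = y * (w * y) * w := by group
        _ = y * y * (w * w) := by rw [← hK.toUI.comm' hyK]; group
        _ = _ := by rw [hK.sq, mul_one]
    exact this ▸ mul_mem h h
  have h3 : y * (u * (w * u * w⁻¹)) * y⁻¹ ∈ cbar 2 J := by
    have := mul_mem (conj_mem_cbar hJ.pc (hT.le hyT) h1 hu.2)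
      (conj_mem_cbar hJ.pc (hT.le (T.mul_mem hyT hwT)) h2 hu.2)
    convert this using 1
    group
  generalize hxd : u * (w * u * w⁻¹) = x at hx hxT hL h3
  have hd : x * y * x⁻¹ * y⁻¹ = 1 := by
    by_contra hd
    refine hn (hK.toUI.mem_of (K.mul_mem (conj_mem_of_mem_normalizer
      (hK.pc.pLayerOf_le_normalizer hx) hyK) (K.inv_mem hyK)) (TE.of_mem hT.isPGroup
      (T.mul_mem (cm hxT hyT) (T.inv_mem hyT))) hd (hJ.pc.pLayerOf_le_normalizer ?_))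
    have := mul_mem hL (conj_mem_of_mem_normalizer (le_normalizer_pLayerOf _ (hT.le hyT))
      (inv_mem hL))
    simpa only [mul_assoc] using this
  rw [mul_inv_eq_one, mul_inv_eq_iff_eq_mul] at hd
  rw [← hd, mul_inv_cancel_right, ← hxd] at h3
  exact hJ.not_cbar hu.2 huu ((mul_mem_cancel_right hu').mp h3)

theorem caseII (hJ : IC J z) (hK : IC K w) (hT : SylowIn 2 T (centralizer ({z} : Set G))) {y : G}
    (hyK : y ∈ K) (hyT : y ∈ T) (hyn : y ∉ normalizer (J : Set G)) (hwT : w ∈ T)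
    (hwn : w ∈ normalizer (J : Set G)) : ¬ ∀ q ∈ T ⊓ J, w * q * w⁻¹ = q := by
  intro hc
  have hc' : ∀ q ∈ T ⊓ J, q * w = w * q := fun q hq => (mul_inv_eq_iff_eq_mul.mp (hc q hq)).symm
  have h1 := hJ.toUI.mem_cbar (hJ.syl hT) hK.sq hwn hc'
  have hwz : zpowers w ≤ centralizer ({z} : Set G) := zpowers_le.mpr (hT.le hwT)
  have h2 := (hJ.pc.pGen_inf_centralizer (TE.of_sq hK.sq).pg hwz
    ((hJ.pc.le_cbar_iff hwz).mp (zpowers_le.mpr h1))).1
  rw [centralizer_zpowers, inf_comm (centralizer ({z} : Set G)), ← centralizer_zpowers z] at h2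
  have h3 : T ⊓ J ≤ normalizer (K : Set G) :=
    (le_pGen_of_isPGroup (hJ.qu hT).pg (le_inf inf_le_right fun q hq => mc.mpr (hc' q hq))).trans
      (((lbal _).le_pLayerOf (TE.of_sq hJ.sq).pg (zpowers_le.mpr (mc.mpr (mc.mp (hT.le hwT)).symm))
        h2).trans hK.pc.pLayerOf_le_normalizer)
  obtain ⟨u, hu, v, hv, huu, hvv, hi⟩ := (hJ.qu hT).pair
  have hu' := conj_mem_cbar hJ.pc (hT.le hyT) hyn hu.2
  have hT' := cm hyT hu.1
  have e1 := comm_of_cbar hT.isPGroup hT' hu' hu.1 hu.2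
  have e2 := comm_of_cbar hT.isPGroup hT' hu' hv.1 hv.2
  have e3 : y * u * y⁻¹ * (y * u * y⁻¹) = z := by
    rw [conj_mul, huu, mc.mp (hT.le hyT), mul_inv_cancel_right]
  have hd : u⁻¹ * (y * u * y⁻¹) ∈ K := by
    have := K.mul_mem (conj_mem_of_mem_normalizer' (h3 hu) hyK) (K.inv_mem hyK)
    simpa only [mul_assoc] using this
  generalize y * u * y⁻¹ = b at *
  rcases hK.uniq _ hd (by
    calc u⁻¹ * b * (u⁻¹ * b) = (u * u)⁻¹ * (u * b) * u⁻¹ * b := by group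
      _ = (u * u)⁻¹ * (b * b) := by rw [← e1]; group
      _ = 1 := by rw [huu, e3, inv_mul_cancel]) with e | e
  · rw [inv_mul_eq_one] at e
    exact hJ.not_cbar hu.2 huu (e ▸ hu')
  · refine hJ.toUI.ne_inv hvv ?_
    calc v⁻¹ = u⁻¹ * (u * v * u⁻¹)⁻¹ * u := by group
      _ = u⁻¹ * (b * v) * b⁻¹ * u := by rw [hi, e2]; group
      _ = w * v * w⁻¹ := by rw [← e]; group
      _ = v := hc v hv

/-- The configuration of the hard case. -/
structure Cf (J K T R : Subgroup G) (z w y a : G) : Prop where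
  hJ : IC J z
  hK : IC K w
  hT : SylowIn 2 T (centralizer ({z} : Set G))
  hR : SylowIn 2 R (centralizer ({w} : Set G))
  TR : ∀ x ∈ T, x * w = w * x → x ∈ R
  RT : ∀ x ∈ R, x * z = z * x → x ∈ T
  zw : z ≠ w
  yK : y ∈ K
  yT : y ∈ T
  yn : y ∉ normalizer (J : Set G)
  yy : y * y ∈ normalizer (J : Set G)
  y1 : y * y ≠ 1
  aT : a ∈ T ⊓ J
  aa : a * a = z
  wa : w * a * w⁻¹ = a⁻¹

namespace Cf

variable {y a : G} (h : Cf J K T R z w y a)
include h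

theorem yw : y * w = w * y := h.hK.toUI.comm' h.yK
theorem yz : y * z = z * y := mc.mp (h.hT.le h.yT)
theorem yR : y ∈ R := h.TR y h.yT h.yw
theorem bT : y * a * y⁻¹ ∈ T := cm h.yT h.aT.1
theorem bc : y * a * y⁻¹ ∈ cbar 2 J := conj_mem_cbar h.hJ.pc (h.hT.le h.yT) h.yn h.aT.2
theorem bq {q : G} (hq : q ∈ T ⊓ J) : y * a * y⁻¹ * q = q * (y * a * y⁻¹) :=
  comm_of_cbar h.hT.isPGroup h.bT h.bc hq.1 hq.2
theorem bb : y * a * y⁻¹ * (y * a * y⁻¹) = z := by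
  rw [conj_mul, h.aa, h.yz, mul_inv_cancel_right]
theorem xT : a * (y * a * y⁻¹) ∈ T := T.mul_mem h.aT.1 h.bT

theorem xx : a * (y * a * y⁻¹) * (a * (y * a * y⁻¹)) = 1 := by
  have h1 := h.bq h.aT
  have h2 := h.bb
  generalize y * a * y⁻¹ = b at *
  calc a * b * (a * b) = a * (b * a) * b := by group
    _ = (a * a) * (b * b) := by rw [h1]; group
    _ = 1 := by rw [h.aa, h2, h.hJ.sq]

theorem xw : a * (y * a * y⁻¹) * w = w * (a * (y * a * y⁻¹)) := by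
  symm
  rw [← mul_inv_eq_iff_eq_mul]
  calc w * (a * (y * a * y⁻¹)) * w⁻¹ = (w * a * w⁻¹) * ((w * y) * a * (w * y)⁻¹) := by group
    _ = (w * a * w⁻¹) * (y * (w * a * w⁻¹) * y⁻¹) := by rw [← h.yw]; group
    _ = (y * a * y⁻¹ * a)⁻¹ := by rw [h.wa]; group
    _ = _ := by rw [h.bq h.aT, inv_eq_of_mul_eq_one_right h.xx]

theorem xR : a * (y * a * y⁻¹) ∈ R := h.TR _ h.xT h.xw

theorem d_eq : y * (a * (y * a * y⁻¹) * y * (a * (y * a * y⁻¹))⁻¹)⁻¹ =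
    (y * y) * a * (y * y)⁻¹ * a⁻¹ := by
  have h1 := h.bq (q := (y * y) * a * (y * y)⁻¹) ⟨cm (T.mul_mem h.yT h.yT) h.aT.1,
    conj_mem_of_mem_normalizer h.yy h.aT.2⟩
  calc _ = y * a * y⁻¹ * ((y * y) * a * (y * y)⁻¹) * (y * a * y⁻¹)⁻¹ * a⁻¹ := by group
    _ = _ := by rw [h1]; group

theorem d_mem : (y * y) * a * (y * y)⁻¹ * a⁻¹ ∈ T ⊓ J :=
  mul_mem ⟨cm (T.mul_mem h.yT h.yT) h.aT.1, conj_mem_of_mem_normalizer h.yy h.aT.2⟩ (inv_mem h.aT)

theorem d_ne : (y * y) * a * (y * y)⁻¹ * a⁻¹ ≠ 1 := fun e => by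
  rw [mul_inv_eq_one, mul_inv_eq_iff_eq_mul] at e
  have h1 := mc.mp (h.hK.toUI.mem_of (K.mul_mem h.yK h.yK)
    (TE.of_mem h.hT.isPGroup (T.mul_mem h.yT h.yT)) h.y1 (mc.mpr e))
  have h2 := h.wa
  rw [h1, mul_inv_cancel_right] at h2
  exact h.hJ.toUI.ne_inv h.aa h2.symm

theorem xn : a * (y * a * y⁻¹) ∉ normalizer (K : Set G) := fun hn => by
  have h1 := K.mul_mem h.yK (K.inv_mem (conj_mem_of_mem_normalizer hn h.yK))
  rw [h.d_eq] at h1
  rcases h.hJ.uniq w (h.hK.toUI.mem_of h1 (TE.of_mem h.hT.isPGroup h.d_mem.1) h.d_ne h.d_mem.2)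
    h.hK.sq with e | e
  · exact h.hK.ne e
  · exact h.zw e.symm

/-- `P` and `P ^ x` commute. -/
theorem pq {p q : G} (hp : p ∈ R ⊓ K) (hq : q ∈ R ⊓ K) :
    a * (y * a * y⁻¹) * q * (a * (y * a * y⁻¹))⁻¹ * p =
      p * (a * (y * a * y⁻¹) * q * (a * (y * a * y⁻¹))⁻¹) :=
  comm_of_cbar h.hR.isPGroup (cm h.xR hq.1)
    (conj_mem_cbar h.hK.pc (h.hR.le h.xR) h.xn hq.2) hp.1 hp.2

theorem xy : a * (y * a * y⁻¹) * y * (a * (y * a * y⁻¹))⁻¹ = z * y := by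
  have h1 := h.pq ⟨h.yR, h.yK⟩ ⟨h.yR, h.yK⟩
  have h2 := h.d_mem
  have h3 := h.d_ne
  rw [← h.d_eq] at h2 h3
  generalize a * (y * a * y⁻¹) * y * (a * (y * a * y⁻¹))⁻¹ = y' at *
  have h4 : y * (y * y'⁻¹) * y⁻¹ = y * y'⁻¹ := by
    calc y * (y * y'⁻¹) * y⁻¹ = y * y * (y * y')⁻¹ := by group
      _ = _ := by rw [← h1]; group
  rcases h.hJ.eq_of_conj h.yz h.yn h2.2 (h4 ▸ conj_mem_cj.mpr h2.2)
    (TE.of_mem h.hT.isPGroup h2.1) with e | e
  · exact absurd e h3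
  · rw [← h.hJ.toUI.inv, ← e]; group

theorem ysq : y * y = w := by
  have h1 : a * (y * a * y⁻¹) * (y * y) * (a * (y * a * y⁻¹))⁻¹ = y * y := by
    rw [← conj_mul, h.xy]
    calc z * y * (z * y) = z * (y * z) * y := by group
      _ = (z * z) * (y * y) := by rw [h.yz]; group
      _ = _ := by rw [h.hJ.sq, one_mul]
  exact (h.hK.eq_of_conj h.xw h.xn (K.mul_mem h.yK h.yK)
    (h1 ▸ conj_mem_cj.mpr (K.mul_mem h.yK h.yK))
    (TE.of_mem h.hT.isPGroup (T.mul_mem h.yT h.yT))).resolve_left h.y1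

theorem wz : w * z = z * w := by
  rw [← h.ysq, mul_assoc, h.yz, ← mul_assoc, h.yz, mul_assoc]

theorem step {p x t : G} (hx : x = a * (y * a * y⁻¹)) (ht : t = p * (x * p * x⁻¹))
    (hp : p ∈ R ⊓ K) (hpp : p * p = w) (hi : p * y * p⁻¹ = y⁻¹) :
    t * t = 1 ∧ x * t = t * x ∧ t * y * t⁻¹ = y⁻¹ ∧ t * z = z * t ∧ t ∈ T := by
  have h1 := h.pq hp hp
  have h2 := h.pq ⟨h.yR, h.yK⟩ hp
  have h3 := h.xy
  have h4 := h.xx
  have h5 := h.xw
  have h6 := h.xR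
  rw [← hx] at h1 h2 h3 h4 h5 h6
  have e1 : x * t = t * x := by
    calc x * t = (x * p * x⁻¹) * (x * x) * p * (x * x)⁻¹ * x := by rw [ht]; group
      _ = _ := by rw [h4, mul_one, inv_one, mul_one, h1, ht]
  have e2 : t * y * t⁻¹ = y⁻¹ := by
    calc t * y * t⁻¹ = p * (x * p * x⁻¹ * y) * (x * p * x⁻¹)⁻¹ * p⁻¹ := by rw [ht]; group
      _ = p * y * p⁻¹ := by rw [h2]; group
      _ = _ := hi
  have e3 : t * z = z * t := by
    rw [← mul_inv_eq_iff_eq_mul]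
    calc t * z * t⁻¹ = t * (z * y) * t⁻¹ * (t * y * t⁻¹)⁻¹ := by group
      _ = (t * x) * y * (t * x)⁻¹ * y := by rw [← h3, e2]; group
      _ = x * (t * y * t⁻¹) * x⁻¹ * y := by rw [← e1]; group
      _ = (x * y * x⁻¹)⁻¹ * y := by rw [e2]; group
      _ = y⁻¹ * (z * y) := by rw [h3, mul_inv_rev, h.hJ.toUI.inv, mul_assoc]
      _ = z := by rw [← h.yz]; group
  refine ⟨?_, e1, e2, e3, h.RT t (ht ▸ R.mul_mem hp.1 (cm h6 hp.1)) e3⟩
  calc t * t = p * (x * p * x⁻¹ * p) * (x * p * x⁻¹) := by rw [ht]; group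
    _ = (p * p) * (x * (p * p) * x⁻¹) := by rw [h1]; group
    _ = 1 := by rw [hpp, h5, mul_inv_cancel_right, h.hK.sq]

theorem step2 {t : G} (hx : a * (y * a * y⁻¹) * t = t * (a * (y * a * y⁻¹)))
    (hi : t * y * t⁻¹ = y⁻¹) (hT : t ∈ T) :
    t * a * t⁻¹ = y * a * y⁻¹ ∨ t * a * t⁻¹ = y * a * y⁻¹ * z := by
  have hH := h.hT.le hT
  have e0 : t * a * t⁻¹ * ((t * y) * a * (t * y)⁻¹) = a * (y * a * y⁻¹) := by
    calc _ = t * (a * (y * a * y⁻¹)) * t⁻¹ := by group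
      _ = _ := by rw [← hx]; group
  have ety : t * y = y⁻¹ * t := by rw [← hi]; group
  have hb := h.bq h.aT
  have hbb := h.bb
  by_cases h1 : t * y ∈ normalizer (J : Set G)
  · have h2 := conj_mem_of_mem_normalizer h1 h.aT.2
    have h3 : (y * a * y⁻¹)⁻¹ * (t * a * t⁻¹) = a * ((t * y) * a * (t * y)⁻¹)⁻¹ := by
      calc _ = (y * a * y⁻¹)⁻¹ * (t * a * t⁻¹ * ((t * y) * a * (t * y)⁻¹)) *
            ((t * y) * a * (t * y)⁻¹)⁻¹ := by group
        _ = _ := by rw [e0, ← hb]; group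
    have h4 : (y * a * y⁻¹)⁻¹ * (t * a * t⁻¹) ∈ H68.cj y J := by
      refine mul_mem (inv_mem (conj_mem_cj.mpr h.aT.2)) (mem_cj.mpr ?_)
      convert h2 using 1
      rw [ety]; group
    rcases h.hJ.eq_of_conj h.yz h.yn (h3 ▸ J.mul_mem h.aT.2 (J.inv_mem h2)) h4
      (TE.of_mem h.hT.isPGroup (T.mul_mem (T.inv_mem h.bT) (cm hT h.aT.1))) with e | e
    · exact Or.inl (inv_mul_eq_one.mp e).symm
    · right; rw [← e]; group
  exfalso
  by_cases h2 : t ∈ normalizer (J : Set G)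
  · have h3 := conj_mem_of_mem_normalizer h2 h.aT.2
    have h4 : a⁻¹ * (t * a * t⁻¹) = y * a * y⁻¹ * ((t * y) * a * (t * y)⁻¹)⁻¹ := by
      calc _ = a⁻¹ * (t * a * t⁻¹ * ((t * y) * a * (t * y)⁻¹)) *
            ((t * y) * a * (t * y)⁻¹)⁻¹ := by group
        _ = _ := by rw [e0]; group
    have h5 : (t * y) * a * (t * y)⁻¹ = y * ((y * y)⁻¹ * (t * a * t⁻¹) * (y * y)) * y⁻¹ := by
      rw [ety]; group
    have h6 : a⁻¹ * (t * a * t⁻¹) ∈ H68.cj y J := by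
      rw [h4, h5]
      exact mul_mem (conj_mem_cj.mpr h.aT.2)
        (inv_mem (conj_mem_cj.mpr (conj_mem_of_mem_normalizer' h.yy h3)))
    have hwa : w⁻¹ * a * w = a⁻¹ := by
      calc w⁻¹ * a * w = w * a * w⁻¹ := by rw [h.hK.toUI.inv]
        _ = _ := h.wa
    rw [h5, h.ysq] at e0
    rcases h.hJ.eq_of_conj h.yz h.yn (J.mul_mem (J.inv_mem h.aT.2) h3) h6
      (TE.of_mem h.hT.isPGroup (T.mul_mem (T.inv_mem h.aT.1) (cm hT h.aT.1))) with e | e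
    · rw [← inv_mul_eq_one.mp e, hwa] at e0
      refine h.hJ.toUI.ne_inv hbb ?_
      calc (y * a * y⁻¹)⁻¹ = y * a⁻¹ * y⁻¹ := by group
        _ = _ := mul_left_cancel e0
    · have e1 : t * a * t⁻¹ = a⁻¹ := by rw [h.hJ.toUI.inv_of_sq h.aa, ← e]; group
      have e2 : w⁻¹ * a⁻¹ * w = a := by
        calc w⁻¹ * a⁻¹ * w = (w⁻¹ * a * w)⁻¹ := by group
          _ = a := by rw [hwa, inv_inv]
      rw [e1, e2] at e0
      exact h.hJ.toUI.ne_inv h.aa (mul_right_cancel e0)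
  · have h3 := mul_mem (conj_mem_cbar h.hJ.pc hH h2 h.aT.2)
      (conj_mem_cbar h.hJ.pc (h.hT.le (T.mul_mem hT h.yT)) h1 h.aT.2)
    rw [e0] at h3
    exact h.hJ.not_cbar h.aT.2 h.aa ((mul_mem_cancel_right h.bc).mp h3)

end Cf

end H82.IN
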