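import Mathlib
import Cfsg.Agent.Lib.Intr.C

/-! Intrinsic 2-components: the two normalisation statements. -/

set_option autoImplicit false
set_option linter.unusedSectionVars false

namespace H82.IN

open Subgroup Cfsg H68 H44

variable {G : Type*} [Group G] [Finite G] {J K T R : Subgroup G} {z w : G}

theorem layer_conj {x t m : G} (h : x ∈ pLayerOf 2 (centralizer ({t} : Set G)))
    (hm : m * x * m⁻¹ = x) : x ∈ pLayerOf 2 (centralizer ({m * t * m⁻¹} : Set G)) := by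
  rw [← cj_centralizer_singleton, ← cj_pLayerOf, ← hm]
  exact conj_mem_cj.mpr h

namespace Cf

variable {y a : G} (h : Cf J K T R z w y a)
include h

theorem step3 {p x t : G} (hx : x = a * (y * a * y⁻¹)) (ht : t = p * (x * p * x⁻¹))
    (hp : p ∈ R ⊓ K) (hpp : p * p = w) (hi : p * y * p⁻¹ = y⁻¹) :
    t * a * t⁻¹ ≠ y * a * y⁻¹ := fun e => by
  obtain ⟨h1, h2, -, h4, -⟩ := h.step hx ht hp hpp hi
  have hxx := h.xx
  have hxw := h.xw
  have hxy := h.xy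
  have hxz := mc.mp (h.hT.le h.xT)
  have hxa : a⁻¹ * x * a⁻¹⁻¹ = x := by
    calc a⁻¹ * x * a⁻¹⁻¹ = y * a * y⁻¹ * a := by rw [hx]; group
      _ = x := by rw [h.bq h.aT, hx]
  have hpq := fun {p q : G} => @Cf.pq G _ _ J K T R z w y a h p q
  have hxn := h.xn
  have hxR := h.xR
  rw [← hx] at hxx hxw hxy hxz hpq hxn hxR
  have hn : t ∉ normalizer (J : Set G) := fun hn =>
    h.hJ.not_cbar (e ▸ conj_mem_of_mem_normalizer hn h.aT.2) h.bb h.bc
  have hL := diag h.hJ.sq h.hJ.pc h1 h4 hn h.aT.2 (by rw [e, ← hx]; exact TE.of_sq hxx)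
    (by rw [e, ← hx]; exact h2)
  rw [e, ← hx] at hL
  have hq := h.hK.qu h.hR
  have hU : cj x (R ⊓ K) ≤ cbar 2 K :=
    (cj_mono x inf_le_right).trans (cj_le_cbar h.hK.pc (h.hR.le hxR) hxn)
  have h5 := (h.hK.pc.2.pGen_inf_centralizer (isPGroup_cj x hq.pg) (le_cbar_iff.mp hU)).1
  have h6 : R ⊓ K ≤ pGen 2 (K ⊓ centralizer (cj x (R ⊓ K) : Set G)) := by
    refine le_pGen_of_isPGroup hq.pg (le_inf inf_le_right fun q hq' u hu => ?_)
    obtain ⟨u, hu, rfl⟩ := hu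
    exact hpq hq' hu
  obtain ⟨g, hg, eg⟩ := (h.hK.toUI.mono ((pGen_le _ _).trans inf_le_left) (h6 hq.mem)).conj4
    h5.perfect (h6 hp) (h6 ⟨h.yR, h.yK⟩) hpp h.ysq
  obtain ⟨hgK, hgC⟩ := pGen_le _ _ hg
  have g1 : x * p * x⁻¹ * g = g * (x * p * x⁻¹) := hgC _ (conj_mem_cj.mpr hp)
  have g2 : x * y * x⁻¹ * g = g * (x * y * x⁻¹) := hgC _ (conj_mem_cj.mpr ⟨h.yR, h.yK⟩)
  have g3 : x * g * x⁻¹ * p = p * (x * g * x⁻¹) := by
    calc x * g * x⁻¹ * p = x * (g * (x * ((x * x)⁻¹ * p * (x * x)) * x⁻¹)) * x⁻¹ := by group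
      _ = x * (x * p * x⁻¹ * g) * x⁻¹ := by rw [hxx, g1]; group
      _ = (x * x) * p * (x * x)⁻¹ * (x * g * x⁻¹) := by group
      _ = _ := by rw [hxx]; group
  have k1 : g * (x * g * x⁻¹) * t * (g * (x * g * x⁻¹))⁻¹ = z * w := by
    calc _ = g * (x * g * x⁻¹ * p) * (x * p * g⁻¹ * x⁻¹) * g⁻¹ := by rw [ht]; group
      _ = g * p * (x * (g * p * g⁻¹) * x⁻¹) * g⁻¹ := by rw [g3]; group
      _ = (g * p * g⁻¹) * (g * (x * (g * p * g⁻¹) * x⁻¹)) * g⁻¹ := by group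
      _ = y * (z * y) := by rw [eg, ← g2, hxy]; group
      _ = z * w := by rw [← mul_assoc, h.yz, mul_assoc, h.ysq]
  have hc : g * (x * g * x⁻¹) * g⁻¹ * (x * g * x⁻¹)⁻¹ ∈ coreOf 2 K := by
    have := inv_mem (mem_cbar_iff.mp (conj_mem_cbar h.hK.pc (h.hR.le hxR) hxn hgK) g hgK)
    convert this using 1
    group
  have k2 : g * (x * g * x⁻¹) * x * (g * (x * g * x⁻¹))⁻¹ * x =
      g * (x * g * x⁻¹) * g⁻¹ * (x * g * x⁻¹)⁻¹ := by
    calc _ = g * (x * g * x⁻¹) * (x * x) * g⁻¹ * (x * x)⁻¹ * (x * g⁻¹ * x⁻¹) * (x * x) := by group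
      _ = _ := by rw [hxx]; group
  rw [← k2] at hc
  generalize g * (x * g * x⁻¹) = k at k1 hc
  obtain ⟨n, hn⟩ := H41.exists_pow_conj_of_odd (s := k * x * k⁻¹) (t := x)
    (by rw [conj_mul, hxx]; group) hxx (Nat.coprime_two_right.mp
      ((coprime_card_coreOf 2 K).coprime_dvd_left (Subgroup.orderOf_dvd_natCard _ hc)))
  have c1 : k * x * k⁻¹ * x ∈ centralizer ({z * w} : Set G) := by
    refine mul_mem (mc.mpr ?_) (mc.mpr ?_)
    · rw [← k1, conj_mul, conj_mul, h2]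
    · rw [← mul_assoc, hxz, mul_assoc, hxw, mul_assoc]
  have c2 := mc.mp (pow_mem c1 n)
  generalize (k * x * k⁻¹ * x) ^ n = c at hn c2
  have m1 := layer_conj (m := a⁻¹ * c⁻¹ * k) hL (by
    calc _ = a⁻¹ * (c⁻¹ * (k * x * k⁻¹) * c) * a⁻¹⁻¹ := by group
      _ = a⁻¹ * x * a⁻¹⁻¹ := by rw [← hn]; group
      _ = x := hxa)
  have m2 : a⁻¹ * c⁻¹ * k * t * (a⁻¹ * c⁻¹ * k)⁻¹ = w := by
    calc _ = a⁻¹ * c⁻¹ * (k * t * k⁻¹ * c) * a := by group
      _ = a⁻¹ * z * (w * a * w⁻¹) * w := by rw [k1, ← c2]; group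
      _ = w := by rw [h.wa, ← h.aa]; group
  rw [m2] at m1
  exact hxn (h.hK.pc.pLayerOf_le_normalizer m1)

theorem false : False := by
  obtain ⟨p, hp, hpp, hi⟩ := (h.hK.qu h.hR).ex y ⟨h.yR, h.yK⟩
  obtain ⟨-, h2, h3, -, h5⟩ := h.step rfl rfl hp hpp hi
  rcases h.step2 h2 h3 h5 with e | e
  · exact h.step3 rfl rfl hp hpp hi e
  refine h.step3 rfl rfl (mul_mem hp ⟨h.yR, h.yK⟩) (sq_mul hpp hi h.yw)
    (by rw [← hi]; group) ?_
  have h6 := h.pq ⟨h.yR, h.yK⟩ hp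
  have h7 := h.xy
  have h8 := h.bb
  have h9 := h.hJ.toUI.comm' h.aT.2
  have h10 := mc.mp (h.hT.le h.bT)
  generalize y * a * y⁻¹ = b at *
  generalize a * b = x at *
  have e1 : p * y * (x * (p * y) * x⁻¹) = p * (x * p * x⁻¹) * (z * w) := by
    calc _ = p * (y * (x * p * x⁻¹)) * (x * y * x⁻¹) := by group
      _ = p * (x * p * x⁻¹) * ((y * z) * y) := by rw [← h6, h7]; group
      _ = _ := by rw [h.yz, mul_assoc z, h.ysq]
  rw [e1]
  generalize p * (x * p * x⁻¹) = t at *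
  calc t * (z * w) * a * (t * (z * w))⁻¹ = t * z * (w * a * w⁻¹) * z⁻¹ * t⁻¹ := by group
    _ = t * z * (z * a)⁻¹ * t⁻¹ := by rw [h.wa]; group
    _ = (t * a * t⁻¹)⁻¹ := by rw [← h9]; group
    _ = b := by rw [e, mul_inv_rev, h.hJ.toUI.inv_of_sq h8, h10]; group

end Cf

theorem exists_pow_step {N : Subgroup G} {y : G} (hy : TE y) (hn : y ∉ N) :
    ∃ j : ℕ, y ^ j ∉ N ∧ y ^ j * y ^ j ∈ N := by
  obtain ⟨k, hk⟩ := hy
  induction k generalizing y with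
  | zero => exact absurd (by rw [show y = 1 by simpa using hk]; exact one_mem _) hn
  | succ k ih =>
    by_cases h2 : y * y ∈ N
    · exact ⟨1, by rwa [pow_one], by rwa [pow_one]⟩
    · obtain ⟨j, hj⟩ := ih h2 (by rw [← pow_two, ← pow_mul, ← pow_succ', hk])
      exact ⟨2 * j, by rwa [pow_mul, pow_two]⟩

/-- Part (i). -/
theorem IC.norm_of_four (hJ : IC J z) (hK : IC K w) {y : G} (hyK : y ∈ K) (hy : TE y)
    (hyy : y * y ≠ 1) (hyz : y * z = z * y) : y ∈ normalizer (J : Set G) := by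
  by_cases hzw : z = w
  · exact hJ.pc.le_normalizer (hzw ▸ hK.pc) hyK
  by_contra hn
  obtain ⟨T, R, hT, hR, hyT, -, TR, RT⟩ := exists_TR z w hy hyz (hK.toUI.comm' hyK)
  have hw := caseA hJ hK hT hyK hyT hyy
  have hwT : w ∈ T := hK.toUI.mem_of hyK hy (fun e => hyy (by rw [e, mul_one])) hyT
  obtain ⟨j, h1, h2⟩ := exists_pow_step hy hn
  have h3 : y ^ j * y ^ j ≠ 1 := fun e => by
    rcases hK.uniq _ (K.pow_mem hyK j) e with e' | e'
    · exact h1 (e' ▸ one_mem _)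
    · exact h1 (e' ▸ hw)
  obtain ⟨a, ha, haa, hi⟩ := (hJ.qu hT).exists_inverted hK.sq
    (inf_normalizer_le_normalizer_inf ⟨le_normalizer hwT, hw⟩)
    (caseII hJ hK hT (K.pow_mem hyK j) (T.pow_mem hyT j) h1 hwT hw)
  exact Cf.false ⟨hJ, hK, hT, hR, TR, RT, hzw, K.pow_mem hyK j, T.pow_mem hyT j, h1, h2, h3, ha,
    haa, hi⟩

theorem exists_cbar (hJ : IC J z) (hK : IC K w) (hT : SylowIn 2 T (centralizer ({z} : Set G)))
    (hR : SylowIn 2 R (centralizer ({w} : Set G))) (TR : ∀ x ∈ T, x * w = w * x → x ∈ R)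
    (hwT : w ∈ T) (hn : w ∉ normalizer (J : Set G)) (hz : z ∈ normalizer (K : Set G))
    (hfix : ∀ y ∈ K, TE y → y * z = z * y → y * y = 1) :
    ∃ u ∈ T ⊓ J, u * u = z ∧ u * (w * u * w⁻¹) ∈ cbar 2 K := by
  have hzR : z ∈ R := TR z (hJ.qu hT).mem.1 (hK.toUI.comm hz)
  have k1 : ∀ x, ∀ k ∈ R ⊓ K, k⁻¹ * x ∈ cbar 2 K → z * k * z⁻¹ = k → x ∈ cbar 2 K := by
    intro x k hk hc e
    rcases hK.uniq k hk.2 (hfix k hk.2 (TE.of_mem hR.isPGroup hk.1)
      (mul_inv_eq_iff_eq_mul.mp e).symm) with e' | e'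
    · rwa [e', inv_one, one_mul] at hc
    · exact (mul_mem_cancel_left (inv_mem (e' ▸ hK.z_cbar))).mp hc
  have k2 : ∀ u ∈ T ⊓ J, u * (w * u * w⁻¹) ∈ cbar 2 K ∨ ∃ k ∈ R ⊓ K,
      k⁻¹ * (u * (w * u * w⁻¹)) ∈ cbar 2 K ∧ z * k * z⁻¹ = k * w := by
    intro u hu
    obtain ⟨h1, h2⟩ := diag_mem hJ hT hK.sq hwT hn hu
    have h3 := T.mul_mem hu.1 (cm hwT hu.1)
    have h4 := mc.mp (hT.le h3)
    obtain ⟨k, hk, hc⟩ := exists_inner hK.pc hR (TR _ h3 h1) h2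
    generalize u * (w * u * w⁻¹) = x at *
    have h5 : k⁻¹ * (z * k * z⁻¹) ∈ cbar 2 K := by
      have := mul_mem hc (inv_mem (conj_mem_of_mem_normalizer
        (normalizer_le_normalizer_cbar 2 K hz) hc))
      convert this using 1
      calc k⁻¹ * (z * k * z⁻¹) = k⁻¹ * (z * x) * x⁻¹ * k * z⁻¹ := by group
        _ = _ := by rw [← h4]; group
    have h6 := K.mul_mem (K.inv_mem hk.2) (conj_mem_of_mem_normalizer hz hk.2)
    rcases hK.uniq _ h6 (hK.toUI.sq_of_cbar hK.pc.2 h6 h5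
      (TE.of_mem hR.isPGroup (R.mul_mem (R.inv_mem hk.1) (cm hzR hk.1)))) with e | e
    · exact Or.inl (k1 x k hk hc (inv_mul_eq_one.mp e).symm)
    · exact Or.inr ⟨k, hk, hc, by rw [← e]; group⟩
  obtain ⟨u, hu, v, hv, huu, hvv, hi⟩ := (hJ.qu hT).pair
  rcases k2 u hu with h | ⟨k, hk, hc, e⟩
  · exact ⟨u, hu, huu, h⟩
  rcases k2 v hv with h | ⟨l, hl, hc', e'⟩
  · exact ⟨v, hv, hvv, h⟩
  refine ⟨u * v, mul_mem hu hv, sq_mul huu hi (hJ.toUI.comm' hv.2), k1 _ (k * l) (mul_mem hk hl) ?_ ?_⟩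
  · have h1 := comm_of_cbar hT.isPGroup (cm hwT hu.1) (conj_mem_cbar hJ.pc (hT.le hwT) hn hu.2)
      hv.1 hv.2
    have := mul_mem (conj_mem_of_mem_normalizer' (normalizer_le_normalizer_cbar 2 K
      (le_normalizer hl.2)) hc) hc'
    convert this using 1
    calc (k * l)⁻¹ * (u * v * (w * (u * v) * w⁻¹)) =
        (k * l)⁻¹ * u * (v * (w * u * w⁻¹)) * (w * v * w⁻¹) := by group
      _ = _ := by rw [← h1]; group
  · calc z * (k * l) * z⁻¹ = k * (w * l) * w := by rw [← conj_mul, e, e']; group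
      _ = k * l * (w * w) := by rw [← hK.toUI.comm' hl.2]; group
      _ = _ := by rw [hK.sq, mul_one]

theorem UI.comm_of_card {P S : Subgroup G} {t : G} (h : UI P t) (hP : IsPGroup 2 P)
    (hn : P ≤ normalizer (S : Set G)) (hc : Nat.card S = Nat.card P) {s : G} (hs : s ∈ S) :
    s * t = t * s := by
  by_cases h1 : s = 1
  · rw [h1, one_mul, mul_one]
  let f : P → S := fun q => ⟨q * s * (q : G)⁻¹, conj_mem_of_mem_normalizer (hn q.2) hs⟩
  have hf : ¬ Function.Injective f := fun hf => by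
    obtain ⟨q, hq⟩ := (hf.bijective_of_nat_card_le hc.le).2 1
    have : (q : G) * s * (q : G)⁻¹ = 1 := congrArg Subtype.val hq
    exact h1 (by simpa using this)
  obtain ⟨q, r, e, hne⟩ := Function.not_injective_iff.mp hf
  have e' : (q : G) * s * (q : G)⁻¹ = r * s * (r : G)⁻¹ := congrArg Subtype.val e
  have hd := P.mul_mem (P.inv_mem r.2) q.2
  refine (mc.mp (h.mem_of hd (TE.of_mem hP hd)
    (fun e => hne (Subtype.ext (inv_mul_eq_one.mp e).symm)) (mc.mpr ?_))).symm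
  calc (r : G)⁻¹ * q * s = (r : G)⁻¹ * (q * s * (q : G)⁻¹) * q := by group
    _ = _ := by rw [e']; group

/-- Part (ii). -/
theorem IC.norm_symm (hJ : IC J z) (hK : IC K w)
    (hcard : ∀ S P, SylowIn 2 S J → SylowIn 2 P K → Nat.card S = Nat.card P)
    (hz : z ∈ normalizer (K : Set G)) : w ∈ normalizer (J : Set G) := by
  by_contra hn
  have hzw := hK.toUI.comm hz
  have hfix : ∀ y ∈ K, TE y → y * z = z * y → y * y = 1 := fun y hy ht e => by
    by_contra h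
    exact hn (hK.toUI.mem_of hy ht (fun e => h (by rw [e, mul_one])) (hJ.norm_of_four hK hy ht h e))
  obtain ⟨T, R, hT, hR, hwT, -, TR, -⟩ := exists_TR z w (TE.of_sq hK.sq) hzw.symm rfl
  have hzR : z ∈ R := TR z (hJ.qu hT).mem.1 hzw
  obtain ⟨u, hu, huu, hx⟩ := exists_cbar hJ hK hT hR TR hwT hn hz hfix
  have hxw := (diag_mem hJ hT hK.sq hwT hn hu).1
  have hxT := T.mul_mem hu.1 (cm hwT hu.1)
  have hxP : ∀ q ∈ R ⊓ K, u * (w * u * w⁻¹) * q = q * (u * (w * u * w⁻¹)) := fun q hq =>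
    comm_of_cbar hR.isPGroup (TR _ hxT hxw) hx hq.1 hq.2
  have hq := hK.qu hR
  obtain ⟨y, hy, hyy, hi⟩ := hq.exists_inverted hJ.sq
    (inf_normalizer_le_normalizer_inf ⟨le_normalizer hzR, hz⟩) fun hc => by
      obtain ⟨p, hp, -, -, hpp, -⟩ := hq.pair
      exact hK.ne (hpp ▸ hfix p hp.2 (TE.of_mem hq.pg hp) (mul_inv_eq_iff_eq_mul.mp (hc p hp)).symm)
  have hu' := conj_mem_cbar hJ.pc (hT.le hwT) hn hu.2
  have huz := hJ.toUI.comm' hu.2
  have hyw := hK.toUI.comm' hy.2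
  have hxz := mc.mp (hT.le hxT)
  have e0 : (w * u * w⁻¹)⁻¹ = w * u * w⁻¹ * z :=
    hJ.toUI.inv_of_sq (by rw [conj_mul, huu, ← hzw, mul_inv_cancel_right])
  have e1 : y * u * w * (y * u)⁻¹ = u * (w * u * w⁻¹) * z := by
    calc _ = y * (u * (w * u * w⁻¹)⁻¹) * w * y⁻¹ := by group
      _ = (y * (u * (w * u * w⁻¹))) * z * (w * y⁻¹ * w⁻¹) * w := by rw [e0]; group
      _ = u * (w * u * w⁻¹) * (y * (z * y * z⁻¹)⁻¹) * z * w := by
        rw [← hxP y hy, ← conj_inv, ← hyw]; group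
      _ = u * (w * u * w⁻¹) * (w * z) * w := by rw [hi, inv_inv, hyy]; group
      _ = u * (w * u * w⁻¹) * z * (w * w) := by rw [← hzw]; group
      _ = _ := by rw [hK.sq, mul_one]
  have e2 : (y * u)⁻¹ * z * (y * u) = u * (w * u * w⁻¹) * w := by
    calc _ = u⁻¹ * (y⁻¹ * (z * y * z⁻¹)) * (z * u) := by group
      _ = u⁻¹ * (y * y)⁻¹ * u * z := by rw [hi, ← huz]; group
      _ = u⁻¹ * w * u * z := by rw [hyy, hK.toUI.inv]
      _ = u * z * (w * u * w⁻¹) * (w * z) := by rw [hJ.toUI.inv_of_sq huu]; group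
      _ = z * (u * (w * u * w⁻¹)) * z * w := by rw [huz, ← hzw]; group
      _ = u * (w * u * w⁻¹) * (z * z) * w := by rw [← hxz]; group
      _ = _ := by rw [hJ.sq, mul_one]
  have hK' := hK.cj (y * u)
  have hq' := hq.toUI.cj (y * u)
  rw [e1] at hK' hq'
  have hpg := isPGroup_cj (y * u) hq.pg
  have hPz : H68.cj (y * u) (R ⊓ K) ≤ centralizer ({z} : Set G) := by
    refine cj_le_iff'.mpr fun q hq => mc.mpr ?_
    have h1 := hxP q hq
    generalize u * (w * u * w⁻¹) = x at *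
    generalize y * u = g at *
    calc g * q * g⁻¹ * z = g * (q * (g⁻¹ * z * g)) * g⁻¹ := by group
      _ = g * (x * (q * w)) * g⁻¹ := by rw [e2, ← mul_assoc q, ← h1]; group
      _ = g * (g⁻¹ * z * g) * q * g⁻¹ := by rw [e2, hK.toUI.comm' hq.2]; group
      _ = _ := by group
  have h4 : ∀ q ∈ H68.cj (y * u) (R ⊓ K), q * q ≠ 1 → q ∈ normalizer (J : Set G) := fun q hq h =>
    hJ.norm_of_four hK' (cj_mono _ inf_le_right hq) (TE.of_mem hpg hq) h (mc.mp (hPz hq))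
  have e3 : y * u * y * (y * u)⁻¹ * (y * u * y * (y * u)⁻¹) = u * (w * u * w⁻¹) * z := by
    rw [conj_mul, hyy, e1]
  have htn : u * (w * u * w⁻¹) * z ∈ normalizer (J : Set G) := by
    have := h4 _ (conj_mem_cj.mpr hy) (e3 ▸ hq'.ne)
    exact e3 ▸ mul_mem this this
  have hPn : H68.cj (y * u) (R ⊓ K) ≤ normalizer (J : Set G) := fun q hq => by
    by_cases h : q * q = 1
    · rcases hq'.uniq q hq h with e | e
      · exact e ▸ one_mem _
      · exact e ▸ htn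
    · exact h4 q hq h
  obtain ⟨T', hT', hPT⟩ := exists_sylowIn_ge hpg hPz
  have h5 := hJ.toUI.mem_cbar (hJ.syl hT') hq'.sq htn fun s hs =>
    hq'.comm_of_card hpg (H2.le_normalizer_inf (hPT.trans le_normalizer) hPn)
      (by rw [card_cj]; exact hcard _ _ (hJ.syl hT') (hK.syl hR)) hs
  exact hJ.not_cbar hu.2 huu
    ((mul_mem_cancel_right hu').mp ((mul_mem_cancel_right hJ.z_cbar).mp h5))

theorem card_sylow_eq (h : Nat.card (J ⧸ pPrimeCore 2 J) = Nat.card (K ⧸ pPrimeCore 2 K))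
    (S P : Subgroup G) (hS : SylowIn 2 S J) (hP : SylowIn 2 P K) : Nat.card S = Nat.card P := by
  have key : ∀ X : Subgroup G, (Nat.card X).factorization 2 =
      (Nat.card (X ⧸ pPrimeCore 2 X)).factorization 2 := fun X => by
    rw [← card_quotient_pPrimeCore_mul 2 X, Nat.factorization_mul Nat.card_pos.ne' Nat.card_pos.ne',
      Finsupp.add_apply, Nat.factorization_eq_zero_of_not_dvd
        ((Nat.Prime.coprime_iff_not_dvd Nat.prime_two).mp (coprime_card_coreOf 2 X).symm), add_zero]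
  rw [hS.card_eq, hP.card_eq, key, key, h]

theorem IC.of {J : Subgroup G} {z : G}
    (h : z ∈ J ∧ orderOf z = 2 ∧ ∀ t ∈ J, orderOf t = 2 → t = z)
    (hJ : J ≤ centralizer ({z} : Set G) ∧
      IsPComponent 2 (J.subgroupOf (centralizer ({z} : Set G)))) : IC J z := by
  refine ⟨⟨h.1, by rw [← pow_two, ← h.2.1, pow_orderOf_eq_one], fun e => ?_, fun t ht e => ?_⟩,
    (isPComponent_subgroupOf_iff hJ.1).mp hJ.2⟩
  · have := h.2.1
    rw [e, orderOf_one] at this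
    omega
  · by_cases h1 : t = 1
    · exact Or.inl h1
    · exact Or.inr (h.2.2 t ht (orderOf_eq_prime (by rw [pow_two, e]) h1))

end H82.IN
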